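import Groth.Agent.SpecSp.Constr
import Groth.Agent.S7566
import Groth.Agent.S7584
import Mathlib.Topology.Separation.Profinite

/-!
The fibre product of a spectral space and a profinite space over `π₀`.
-/

set_option autoImplicit false

universe u v

open Set Topology TopologicalSpace

namespace Groth.Agent.SpecProd

variable {X : Type u} {T : Type v} [TopologicalSpace X] [TopologicalSpace T]

theorem t2Space_connectedComponents [SpectralSpace X] : T2Space (ConnectedComponents X) :=
  Groth.Agent.S7584.result X fun x => Groth.Agent.S7566.result x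

variable [CompactSpace T] [T2Space T] [TotallyDisconnectedSpace T]

theorem spectralSpace_prod_profinite [SpectralSpace X] : SpectralSpace (X × T) := by
  let b : {U : Set X // IsOpen U ∧ IsCompact U} × {V : Set T // IsClopen V} → Set (X × T) :=
    fun p => p.1.1 ×ˢ p.2.1
  have hb : IsTopologicalBasis (range b) := by
    convert (PrespectralSpace.isTopologicalBasis (X := X)).prod
      (isTopologicalBasis_isClopen (X := T)) using 1
    ext s
    simp [b, image2, eq_comm, and_assoc]
  have : PrespectralSpace (X × T) :=
    .of_isTopologicalBasis' hb fun p => p.1.2.2.prod p.2.2.isClosed.isCompact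
  have : QuasiSeparatedSpace (X × T) := .of_isTopologicalBasis hb fun p q => by
    simp only [b, Set.prod_inter_prod]
    exact (p.1.2.2.inter_of_isOpen q.1.2.2 p.1.2.1 q.1.2.1).prod
      (p.2.2.inter q.2.2).isClosed.isCompact
  have : QuasiSober (X × T) := by
    refine ⟨fun {Z} hZirr hZcl => ?_⟩
    have hirr := hZirr.image Prod.snd continuous_snd.continuousOn
    obtain ⟨t, ht⟩ := isIrreducible_iff_singleton.1 hirr
    have hZ : ∀ z ∈ Z, z.2 = t := fun z hz => (ht ▸ mem_image_of_mem Prod.snd hz : z.2 ∈ ({t} : Set T))
    have hcl : IsClosed ((fun x => (x, t)) ⁻¹' Z : Set X) := hZcl.preimage (by fun_prop)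
    have hfst : Prod.fst '' Z = ((fun x => (x, t)) ⁻¹' Z : Set X) := by
      ext x
      constructor
      · rintro ⟨⟨x', t'⟩, hz, rfl⟩
        obtain rfl := hZ _ hz
        exact hz
      · exact fun hx => ⟨_, hx, rfl⟩
    obtain ⟨η, hη⟩ := QuasiSober.sober (hfst ▸ hZirr.image Prod.fst continuous_fst.continuousOn) hcl
    refine ⟨(η, t), isGenericPoint_iff_specializes.2 fun z => ?_⟩
    constructor
    · exact fun h => h.mem_closed hZcl hη.mem
    · intro hz
      obtain ⟨x, t'⟩ := z
      obtain rfl := hZ _ hz
      exact (hη.specializes (show x ∈ _ from hz)).prod specializes_rfl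
  exact { }

theorem isClosed_fibreProd [SpectralSpace X] (g : C(T, ConnectedComponents X)) :
    IsClosed {p : X × T | ConnectedComponents.mk p.1 = g p.2} := by
  have := t2Space_connectedComponents (X := X)
  exact isClosed_eq (ConnectedComponents.continuous_coe.comp continuous_fst) (g.continuous.comp continuous_snd)

theorem spectralSpace_fibreProd [SpectralSpace X] (g : C(T, ConnectedComponents X)) :
    SpectralSpace {p : X × T // ConnectedComponents.mk p.1 = g p.2} := by
  have := spectralSpace_prod_profinite (X := X) (T := T)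
  exact SpecSp.spectralSpace_of_isClosed_cons (SpecSp.isClosed_cons (isClosed_fibreProd g))

theorem isPreconnected_fibre (g : C(T, ConnectedComponents X)) (t : T) :
    IsPreconnected {y : {p : X × T // ConnectedComponents.mk p.1 = g p.2} | y.1.2 = t} := by
  obtain ⟨x, hx⟩ := ConnectedComponents.surjective_coe (g t)
  refine (IsInducing.subtypeVal (t := {p : X × T | ConnectedComponents.mk p.1 = g p.2})).isPreconnected_image.1 ?_
  convert (isPreconnected_connectedComponent (x := x)).prod (isPreconnected_singleton (x := t))
  ext ⟨a, s⟩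
  constructor
  · rintro ⟨⟨⟨a', s'⟩, ha⟩, (hs : s' = t), heq⟩
    obtain ⟨rfl, rfl⟩ := Prod.mk.inj heq
    subst hs
    exact ⟨ConnectedComponents.coe_eq_coe'.1 (Eq.trans ha hx.symm), rfl⟩
  · rintro ⟨ha, (rfl : s = t)⟩
    exact ⟨⟨(a, s), (ConnectedComponents.coe_eq_coe'.2 ha).trans hx⟩, rfl, rfl⟩

theorem exists_homeo_fibreProd [SpectralSpace X] (g : C(T, ConnectedComponents X)) :
    ∃ e : ConnectedComponents {p : X × T // ConnectedComponents.mk p.1 = g p.2} ≃ₜ T,
      ∀ y : {p : X × T // ConnectedComponents.mk p.1 = g p.2}, e (ConnectedComponents.mk y) = y.1.2 := by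
  have := spectralSpace_fibreProd g
  have hc : Continuous fun y : {p : X × T // ConnectedComponents.mk p.1 = g p.2} => y.1.2 :=
    continuous_snd.comp continuous_subtype_val
  have hbij : Function.Bijective hc.connectedComponentsLift := by
    constructor
    · refine ConnectedComponents.surjective_coe.forall₂.2 fun a b h => ?_
      rw [hc.connectedComponentsLift_apply_coe, hc.connectedComponentsLift_apply_coe] at h
      exact (ConnectedComponents.coe_eq_coe'.2
        ((isPreconnected_fibre g a.1.2).subset_connectedComponent rfl h.symm)).symm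
    · intro t
      obtain ⟨x, hx⟩ := ConnectedComponents.surjective_coe (g t)
      exact ⟨ConnectedComponents.mk ⟨(x, t), hx⟩, hc.connectedComponentsLift_apply_coe _⟩
  exact ⟨Continuous.homeoOfEquivCompactToT2 (f := Equiv.ofBijective _ hbij) hc.connectedComponentsLift_continuous,
    fun y => hc.connectedComponentsLift_apply_coe y⟩

theorem isClosed_singleton_iff [SpectralSpace X] (g : C(T, ConnectedComponents X))
    (y : {p : X × T // ConnectedComponents.mk p.1 = g p.2}) :
    IsClosed ({y} : Set {p : X × T // ConnectedComponents.mk p.1 = g p.2}) ↔ IsClosed ({y.1.1} : Set X) := by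
  rw [(isClosed_fibreProd g).isClosedEmbedding_subtypeVal.isClosed_iff_image_isClosed, image_singleton,
    ← singleton_prod_singleton (a := y.1.1) (b := y.1.2)]
  constructor
  · intro h
    convert h.preimage (Continuous.prodMk_left y.1.2 : Continuous fun x : X => (x, y.1.2))
    ext; simp [Prod.ext_iff]
  · exact fun h => h.prod isClosed_singleton

theorem specializes_mk_eq [SpectralSpace X] {x x' : X} (h : x ⤳ x') :
    ConnectedComponents.mk x = ConnectedComponents.mk x' := by
  have := t2Space_connectedComponents (X := X)
  exact (h.map ConnectedComponents.continuous_coe).eq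

theorem existsUnique_closed_specializes [SpectralSpace X]
    (hX : ∀ x : X, ∃! y : X, IsClosed ({y} : Set X) ∧ x ⤳ y) (g : C(T, ConnectedComponents X))
    (y : {p : X × T // ConnectedComponents.mk p.1 = g p.2}) :
    ∃! z : {p : X × T // ConnectedComponents.mk p.1 = g p.2}, IsClosed {z} ∧ y ⤳ z := by
  obtain ⟨x', ⟨hcl, hsp⟩, huniq⟩ := hX y.1.1
  refine ⟨⟨(x', y.1.2), (specializes_mk_eq hsp).symm.trans y.2⟩,
    ⟨(isClosed_singleton_iff g _).2 hcl, subtype_specializes_iff _ _ |>.2 (hsp.prod specializes_rfl)⟩, ?_⟩
  rintro z ⟨hz, hyz⟩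
  have h := subtype_specializes_iff _ _ |>.1 hyz
  exact Subtype.ext (Prod.ext (huniq z.1.1 ⟨(isClosed_singleton_iff g z).1 hz, h.map continuous_fst⟩)
    (h.map continuous_snd).eq.symm)

theorem isSpectralMap_fst [SpectralSpace X] (g : C(T, ConnectedComponents X)) :
    IsSpectralMap (fun y : {p : X × T // ConnectedComponents.mk p.1 = g p.2} => y.1.1) := by
  refine ⟨continuous_fst.comp continuous_subtype_val, fun U _ hc => ?_⟩
  have h := (isClosed_fibreProd g).isClosedEmbedding_subtypeVal.isCompact_preimage
    (hc.prod (isCompact_univ (X := T)))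
  rw [show (fun y : {p : X × T // ConnectedComponents.mk p.1 = g p.2} => y.1.1) ⁻¹' U =
    Subtype.val ⁻¹' (U ×ˢ (univ : Set T)) from Set.ext fun y => by simp]
  exact h

end Groth.Agent.SpecProd
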